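import Groth.Agent.ComodLib.Basic
import Groth.Agent.ComodLib.Orbits
import Groth.Agent.ComodLib.CartierChar0

/-! # Subspaces stable under rational points are subcomodules -/

universe u v w

open TensorProduct

namespace Groth.Agent.EquivZMT

variable {k : Type u} [Field k] {A : Type v} [CommRing A] [HopfAlgebra k A]

/-- Translation of functions by a rational point. -/
noncomputable def evalHom {R : Type w} [CommRing R] [Algebra k R] [HopfRep.Comod k A R]
    [GLin.IsCoactAlg k A R] (g : A →ₐ[k] k) : R →ₐ[k] R :=
  (Algebra.TensorProduct.lift (AlgHom.id k R) ((Algebra.ofId k R).comp g)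
    (fun (_ : R) (_ : A) => mul_comm _ _)).comp (GLin.coactAlgHom k A R)

theorem evalHom_apply {R : Type w} [CommRing R] [Algebra k R] [HopfRep.Comod k A R]
    [GLin.IsCoactAlg k A R] (g : A →ₐ[k] k) (r : R) :
    evalHom g r = ComodLib.actF g.toLinearMap r := by
  rw [evalHom, AlgHom.comp_apply, GLin.coactAlgHom_apply]
  rw [ComodLib.actF_apply]
  induction HopfRep.Comod.coact (k := k) (A := A) r using TensorProduct.induction_on with
  | zero => simp
  | add a b ha hb => simp only [map_add, ha, hb]
  | tmul a b =>
    refine (Algebra.TensorProduct.lift_tmul _ _ _ _ _).trans ?_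
    rw [ComodLib.slice_tmul, Algebra.smul_def, mul_comm]
    rfl

variable [IsAlgClosed k] [Algebra.FiniteType k A] [_root_.IsReduced A]

/-- On a finite-dimensional subspace every linear form is a combination of rational points. -/
theorem exists_comb_points (W : Submodule k A) [FiniteDimensional k W] (φ : A →ₗ[k] k) :
    ∃ β ∈ Submodule.span k (Set.range fun g : A →ₐ[k] k => g.toLinearMap), ∀ a ∈ W, β a = φ a := by
  let res : (A →ₗ[k] k) →ₗ[k] Module.Dual k W := W.subtype.dualMap
  let P : Submodule k (Module.Dual k W) :=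
    (Submodule.span k (Set.range fun g : A →ₐ[k] k => g.toLinearMap)).map res
  have hbot : P.dualCoannihilator = ⊥ := by
    rw [eq_bot_iff]
    intro a ha
    rw [Submodule.mem_bot]
    by_contra hne
    have hnil : ¬ IsNilpotent (a : A) := fun h => hne (Subtype.ext h.eq_zero)
    obtain ⟨g, hg⟩ := ComodLib.exists_point_ne_zero (k := k) hnil
    exact hg ((Submodule.mem_dualCoannihilator _).1 ha (res g.toLinearMap)
      (Submodule.mem_map_of_mem (Submodule.subset_span ⟨g, rfl⟩)))
  have htop : P = ⊤ := by
    rw [← Subspace.dualCoannihilator_dualAnnihilator_eq (W := P), hbot, Submodule.dualAnnihilator_bot]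
  obtain ⟨β, hβ, hβ'⟩ := (htop ▸ Submodule.mem_top : res φ ∈ P)
  exact ⟨β, hβ, fun a ha => LinearMap.congr_fun hβ' ⟨a, ha⟩⟩

/-- A subspace stable under all rational points is a subcomodule. -/
theorem isSubcomod_of_points {V : Type w} [AddCommGroup V] [Module k V] [HopfRep.Comod k A V]
    {U : Submodule k V} (h : ∀ g : A →ₐ[k] k, ∀ u ∈ U, ComodLib.actF g.toLinearMap u ∈ U) :
    HopfRep.IsSubcomod (k := k) (A := A) U := by
  classical
  rw [ComodLib.isSubcomod_iff_actF]
  intro φ u hu
  obtain ⟨S, hS⟩ := TensorProduct.exists_finset (HopfRep.Comod.coact (k := k) (A := A) u)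
  let W : Submodule k A := Submodule.span k ((S.image Prod.snd : Finset A) : Set A)
  obtain ⟨β, hβ, hagree⟩ := exists_comb_points W φ
  have heq : ComodLib.actF φ u = ComodLib.actF β u := by
    rw [ComodLib.actF_apply, ComodLib.actF_apply, hS, map_sum, map_sum]
    refine Finset.sum_congr rfl fun i hi => ?_
    rw [ComodLib.slice_tmul, ComodLib.slice_tmul,
      hagree _ (Submodule.subset_span (Finset.mem_coe.2 (Finset.mem_image_of_mem _ hi)))]
  rw [heq]
  clear heq hagree
  induction hβ using Submodule.span_induction with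
  | mem x hx => obtain ⟨g, rfl⟩ := hx; exact h g u hu
  | zero => rw [ComodLib.actF_zero]; exact zero_mem _
  | add x y _ _ hx hy => rw [ComodLib.actF_add]; exact add_mem hx hy
  | smul c x _ hx => rw [ComodLib.actF_smul]; exact Submodule.smul_mem _ c hx

end Groth.Agent.EquivZMT
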