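import Groth.Prelude.Def_GLin
import Mathlib.RingTheory.Flat.Basic

/-! # The coaction on an invariant subalgebra -/

universe u v w

open TensorProduct

namespace Groth.Agent.EquivZMT

variable {k : Type u} [Field k] {A : Type v} [CommRing A] [HopfAlgebra k A]
  {R : Type w} [CommRing R] [Algebra k R] [HopfRep.Comod k A R] [GLin.IsCoactAlg k A R]

/-- A subalgebra which is a subcomodule has a coaction for which the inclusion is equivariant. -/
theorem exists_comod_subalgebra (B : Subalgebra k R)
    (hB : HopfRep.IsSubcomod (k := k) (A := A) (Subalgebra.toSubmodule B)) :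
    ∃ (c : HopfRep.Comod k A B) (_ : @GLin.IsCoactAlg k _ A _ _ B _ _ c),
      ∀ b : B, HopfRep.Comod.coact (k := k) (A := A) (B.val b) =
        Algebra.TensorProduct.map B.val (AlgHom.id k A) (@HopfRep.Comod.coact k A _ _ _ _ B _ _ c b) := by
  let ι := Algebra.TensorProduct.map B.val (AlgHom.id k A)
  let l : B →ₗ[k] R := B.val.toLinearMap
  have hl : Function.Injective l := Subtype.val_injective
  have hlin : ∀ z, ι z = l.rTensor A z := fun z => by
    induction z using TensorProduct.induction_on with
    | zero => simp
    | add a b ha hb => simp only [map_add, ha, hb]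
    | tmul a b => simp [ι, l]
  have hι : Function.Injective (l.rTensor A) := Module.Flat.rTensor_preserves_injective_linearMap l hl
  have hmem : ∀ b : B, HopfRep.Comod.coact (k := k) (A := A) (b : R) ∈ LinearMap.range (l.rTensor A) :=
    fun b => by
      obtain ⟨z, hz⟩ := hB (b : R) b.2
      exact ⟨z, hz⟩
  let co : B →ₗ[k] B ⊗[k] A := (LinearEquiv.ofInjective _ hι).symm.toLinearMap ∘ₗ
    LinearMap.codRestrict (LinearMap.range (l.rTensor A))
      (HopfRep.Comod.coact (k := k) (A := A) ∘ₗ l) hmem
  have hco : ∀ b : B, l.rTensor A (co b) = HopfRep.Comod.coact (k := k) (A := A) (b : R) := fun b =>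
    congrArg Subtype.val ((LinearEquiv.ofInjective _ hι).apply_symm_apply _)
  have hco' : l.rTensor A ∘ₗ co = HopfRep.Comod.coact (k := k) (A := A) ∘ₗ l := LinearMap.ext hco
  let c : HopfRep.Comod k A B :=
    { coact := co
      coassoc := by
        refine LinearMap.ext fun b => ?_
        apply Module.Flat.rTensor_preserves_injective_linearMap (M := A ⊗[k] A) l hl
        have h1 : ∀ w : (B ⊗[k] A) ⊗[k] A, l.rTensor (A ⊗[k] A) (TensorProduct.assoc k B A A w) =
            TensorProduct.assoc k R A A ((l.rTensor A).rTensor A w) := fun w => by
          induction w using TensorProduct.induction_on with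
          | zero => simp
          | add a b ha hb => simp only [map_add, ha, hb]
          | tmul x a =>
            induction x using TensorProduct.induction_on with
            | zero => simp
            | add p q hp hq => simp only [TensorProduct.add_tmul, map_add, hp, hq]
            | tmul x y => simp
        simp only [LinearMap.comp_apply, LinearEquiv.coe_coe]
        rw [h1, ← LinearMap.rTensor_comp_apply, hco', LinearMap.rTensor_comp_apply, hco]
        rw [← LinearMap.comp_apply (f := l.rTensor (A ⊗[k] A)), LinearMap.rTensor_comp_lTensor,
          ← LinearMap.lTensor_comp_rTensor, LinearMap.comp_apply, hco]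
        exact LinearMap.congr_fun (HopfRep.Comod.coassoc (k := k) (A := A) (V := R)) (b : R)
      counit_comp := by
        refine LinearMap.ext fun b => ?_
        apply Module.Flat.rTensor_preserves_injective_linearMap (M := k) l hl
        simp only [LinearMap.comp_apply]
        rw [← LinearMap.comp_apply (f := l.rTensor k), LinearMap.rTensor_comp_lTensor,
          ← LinearMap.lTensor_comp_rTensor, LinearMap.comp_apply, hco]
        exact LinearMap.congr_fun (HopfRep.Comod.counit_comp (k := k) (A := A) (V := R)) (b : R) }
  letI := c
  refine ⟨c, ⟨?_, fun f g => ?_⟩, fun b => ?_⟩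
  · apply hι
    show l.rTensor A (co 1) = _
    rw [hco, ← hlin, map_one]
    exact GLin.IsCoactAlg.coact_one
  · apply hι
    show l.rTensor A (co (f * g)) = l.rTensor A (co f * co g)
    rw [hco, ← hlin, map_mul, hlin, hlin, hco, hco]
    exact GLin.IsCoactAlg.coact_mul _ _
  · rw [hlin]; exact (hco b).symm

end Groth.Agent.EquivZMT
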